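import Groth.Agent.L24.Sub.OpenSub
import Groth.Agent.L24.St.PointsUniv
import Groth.Agent.L24.LocQ.Descent
import Groth.Agent.L24.LocQ.RepDescent
import Groth.Agent.L23.OpenSub

/-!
Open substacks are the open sets of points.
-/

set_option autoImplicit false
set_option backward.isDefEq.respectTransparency false
set_option backward.isDefEq.respectTransparency.types false

universe v₄ u₄ u

open CategoryTheory CategoryTheory.Limits AlgebraicGeometry Opposite AlgSt

noncomputable section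

namespace Groth.L24.Sub

open Groth.L24.St

variable {S : Scheme.{u}} {𝒳 : AlgSt.Cat S}

theorem isOpenMor_of_isOpenImm {𝒴 : AlgSt.Cat S} (h𝒴 : IsAlgStack Scheme.fppfPrecoverage 𝒴)
    (h𝒳 : IsAlgStack Scheme.fppfPrecoverage 𝒳) {f : 𝒴 ⥤ᵇ 𝒳} (hf : IsOpenImm f) : IsOpenMor f :=
  LocQ.isOpenMor_of_flat_lfp h𝒴 h𝒳
    (LocQ.locQ_of_repWith_locP Groth.L23.etLocal_flat h𝒴 h𝒳 (repWith_mono (fun _ _ _ _ h =>
      Groth.L23.locP_of_repWith Groth.L23.etLocal_flat (Groth.L23.repWith_mono (Q := (@Flat : MorphismProperty Scheme.{u}))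
        (fun φ (hφ : IsOpenImmersion φ) => have := hφ; inferInstanceAs (Flat φ)) h)) hf))
    (LocQ.locQ_of_repWith_locP Groth.L23.etLocal_lfp h𝒴 h𝒳 (repWith_mono (fun _ _ _ _ h =>
      Groth.L23.locP_of_repWith Groth.L23.etLocal_lfp (Groth.L23.repWith_mono
        (Q := (@LocallyOfFinitePresentation : MorphismProperty Scheme.{u}))
        (fun φ (hφ : IsOpenImmersion φ) => have := hφ; inferInstanceAs (LocallyOfFinitePresentation φ)) h)) hf))

theorem isOpen_range_of_isOpenSubstack (h𝒳 : IsAlgStack Scheme.fppfPrecoverage 𝒳) {Q : 𝒳.obj → Prop}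
    (hQ : IsOpenSubstack 𝒳 Q Scheme.fppfPrecoverage) : IsOpen (Set.range (Points.map (subIncl 𝒳 Q))) :=
  (isOpenMor_of_isOpenImm hQ.2.1 h𝒳 hQ.2.2).isOpen_range

/-- An open substack consists of the objects whose points lie in it. -/
theorem iff_within (h𝒳 : IsAlgStack Scheme.fppfPrecoverage 𝒳) {Q : 𝒳.obj → Prop}
    (hQ : IsOpenSubstack 𝒳 Q Scheme.fppfPrecoverage) (x : 𝒳.obj) :
    Q x ↔ Within (Set.range (Points.map (subIncl 𝒳 Q))) x := by
  let T := Set.range (Points.map (subIncl 𝒳 Q))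
  let ι := subIncl 𝒳 Q
  constructor
  · intro hx q φ
    obtain ⟨z, hz, κ, hκ⟩ := exists_over hQ.2.1.isStack.1
      (rfl : (fullSub 𝒳 Q).p.obj ⟨x, hx⟩ = _) (eqToHom q.lies.symm ≫ 𝒳.p.map φ)
    obtain ⟨χ, -, -⟩ := exists_factor h𝒳.isStack.1 φ (ι.map κ)
      (eqToHom (q.lies.trans (hz.symm.trans (ι.w_obj z).symm))) (by
        have hκ' : 𝒳.p.map κ.hom = _ := hκ
        change _ ≫ 𝒳.p.map κ.hom = _
        simp [hκ'])
    let r : FPt (fullSub 𝒳 Q) := { K := q.K, str := q.str, obj := z, lies := hz }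
    rw [mk_eq_of_hom (p := q) (q := r.map ι) χ]
    exact ⟨Points.mk r, rfl⟩
  · intro hx
    obtain ⟨G, φ, hφ⟩ := exists_overCat_functor (U := 𝒳.p.obj x) h𝒳.isStack.1 x rfl
    let U := 𝒳.p.obj x
    obtain ⟨F, e, he, ha⟩ := hQ.2.2 U G
    let a := spMapOfOver (BasedFunctor.comp e (FibCat.fpFst G ι))
    have hsurj : IsSurjective (BasedFunctor.comp e (FibCat.fpFst G ι)) := by
      refine isSurjective_comp (isSurjective_of_isEquivOver he) fun p => ?_
      obtain ⟨v, rfl⟩ := (overPtEquiv U).symm.surjective p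
      have hv : Points.map G (ptOver v) ∈ T := by
        have h1 := (within_chart_iff h𝒳.isStack.1 T G (idObj U)).1 (hx.of_hom φ.hom) v
        exact h1
      obtain ⟨z, hz⟩ := hv
      obtain ⟨w, hw, -⟩ := exists_points_fp hQ.2.1.isStack.1 h𝒳.isStack.1 (overCat_isFibGrpd U) ι G
        (ptOver v) z hz.symm
      exact ⟨w, hw⟩
    have : IsIso a := Groth.L23.isIso_of_openImmersion_surjective ha ((surjective_spMapOfOver_iff _).2 hsurj)
    let Φ : FibCat.overCat U ⥤ᵇ FibCat.fp G ι :=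
      BasedFunctor.comp (ofOverCat U) (BasedFunctor.comp (ofSpMap (inv a)) e)
    obtain ⟨ψ, ⟨iψ⟩, hψ⟩ := exists_overMap_iso (BasedFunctor.comp Φ (FibCat.fpFst G ι))
    have hψ1 : ψ = 𝟙 U := by
      apply (AlgSp.yon S).map_injective
      rw [← hψ, CategoryTheory.Functor.map_id, ← IsIso.inv_hom_id a]
      rw [show BasedFunctor.comp (toOverCat U) (BasedFunctor.comp Φ (FibCat.fpFst G ι)) =
        BasedFunctor.comp (BasedFunctor.comp (toOverCat U) (ofOverCat U))
          (BasedFunctor.comp (ofSpMap (inv a)) (BasedFunctor.comp e (FibCat.fpFst G ι))) from rfl,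
        toOverCat_ofOverCat]
      exact spMapOfOver_ofSpMap_comp (inv a) (BasedFunctor.comp e (FibCat.fpFst G ι))
    subst hψ1
    let η := Φ.obj (idObj U)
    let j : (overMap (𝟙 U)).obj (idObj U) ≅ idObj U := Over.isoMk (Iso.refl _) (by simp [overMap])
    let e1 : η.obj.fst ≅ idObj U := (appIso iψ (idObj U)).trans j
    exact hQ.1.of_iso ((η.obj.iso).symm ≪≫ G.toFunctor.mapIso e1 ≪≫ φ) η.obj.snd.property

theorem subset_iff (h𝒳 : IsAlgStack Scheme.fppfPrecoverage 𝒳) {Q Q' : 𝒳.obj → Prop}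
    (hQ : IsOpenSubstack 𝒳 Q Scheme.fppfPrecoverage) (hQ' : IsOpenSubstack 𝒳 Q' Scheme.fppfPrecoverage) :
    (∀ y, Q y → Q' y) ↔ Set.range (Points.map (subIncl 𝒳 Q)) ⊆ Set.range (Points.map (subIncl 𝒳 Q')) := by
  constructor
  · rintro h - ⟨p, rfl⟩
    obtain ⟨p, rfl⟩ := Points.mk_surjective p
    let r : FPt (fullSub 𝒳 Q') :=
      { K := p.K, str := p.str, obj := ⟨p.obj.obj, h _ p.obj.property⟩, lies := p.lies }
    exact ⟨Points.mk r, mk_eq_of_hom (p := r.map (subIncl 𝒳 Q')) (q := p.map (subIncl 𝒳 Q)) (𝟙 _)⟩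
  · intro h y hy
    exact (iff_within h𝒳 hQ' y).2 (((iff_within h𝒳 hQ y).1 hy).mono h)

end Groth.L24.Sub
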