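import Groth.Agent.L24.St.FpAlg
import Groth.Agent.L24.St.QcSep

/-!
Open substacks and open sets of points.
-/

set_option autoImplicit false
set_option backward.isDefEq.respectTransparency false
set_option backward.isDefEq.respectTransparency.types false

universe v₄ u₄ u

open CategoryTheory CategoryTheory.Limits AlgebraicGeometry Opposite AlgSt

noncomputable section

namespace Groth.L24.Sub

open Groth.L24.St

variable {S : Scheme.{u}} {𝒳 : AlgSt.Cat S}

/-- All points of the object lie in the set. -/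
def Within (T : Set (Points 𝒳)) (x : 𝒳.obj) : Prop :=
  ∀ (q : FPt 𝒳), (q.obj ⟶ x) → Points.mk q ∈ T

theorem Within.of_hom {T : Set (Points 𝒳)} {x y : 𝒳.obj} (h : Within T x) (φ : y ⟶ x) : Within T y :=
  fun q ψ => h q (ψ ≫ φ)

theorem within_iso (T : Set (Points 𝒳)) : ObjectProperty.IsClosedUnderIsomorphisms (Within T) :=
  ⟨fun e h => h.of_hom e.inv⟩

theorem Within.mono {T T' : Set (Points 𝒳)} (hT : T ⊆ T') {x : 𝒳.obj} (h : Within T x) : Within T' x :=
  fun q φ => hT (h q φ)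

/-- A functor lands in `Within T` if and only if its points lie in `T`. -/
theorem forall_within_iff {𝒵 : BasedCategory.{v₄, u₄} (Over S)} (h𝒵 : FibCat.IsFibGrpd 𝒵.p)
    (h𝒳 : FibCat.IsFibGrpd 𝒳.p) (T : Set (Points 𝒳)) (h : 𝒵 ⥤ᵇ 𝒳) :
    (∀ a, Within T (h.obj a)) ↔ Set.range (Points.map h) ⊆ T := by
  constructor
  · rintro hw - ⟨p, rfl⟩
    obtain ⟨p, rfl⟩ := Points.mk_surjective p
    exact hw p.obj (p.map h) (𝟙 _)
  · intro hT a q φ
    let m : Over.mk q.str ⟶ 𝒵.p.obj a := eqToHom q.lies.symm ≫ 𝒳.p.map φ ≫ eqToHom (h.w_obj a)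
    obtain ⟨b, hb, ι, hι⟩ := exists_over h𝒵 (rfl : 𝒵.p.obj a = _) m
    obtain ⟨χ, -, -⟩ := exists_factor h𝒳 φ (h.map ι)
      (eqToHom (q.lies.trans (hb.symm.trans (h.w_obj b).symm))) (by simp [p_map_map, hι, m])
    let r : FPt 𝒵 := { K := q.K, str := q.str, obj := b, lies := hb }
    rw [mk_eq_of_hom (p := q) (q := r.map h) χ]
    exact hT ⟨Points.mk r, rfl⟩

theorem within_chart_iff (h𝒳 : FibCat.IsFibGrpd 𝒳.p) (T : Set (Points 𝒳)) {U : Over S}
    (G : FibCat.overCat U ⥤ᵇ 𝒳) (a : (FibCat.overCat U).obj) :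
    Within T (G.obj a) ↔ ∀ v, Points.ofChart G (a.hom.left v) ∈ T := by
  let H := BasedFunctor.comp (overMap a.hom) G
  have h1 : (∀ b, Within T (H.obj b)) ↔ Within T (G.obj a) := by
    constructor
    · intro h
      exact (h (idObj a.left)).of_hom (G.map (Over.homMk (𝟙 _)))
    · intro h b
      exact h.of_hom (G.map (Over.homMk b.hom))
  rw [← h1, forall_within_iff (overCat_isFibGrpd _) h𝒳]
  constructor
  · intro hT v
    rw [← ofChart_overMap_comp]
    exact hT ⟨ptOver v, rfl⟩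
  · rintro hT - ⟨p, rfl⟩
    obtain ⟨v, rfl⟩ := (overPtEquiv _).symm.surjective p
    show Points.ofChart H v ∈ T
    rw [ofChart_overMap_comp]
    exact hT v

theorem fullSub_isFibGrpd (h𝒳 : FibCat.IsFibGrpd 𝒳.p) (Q : 𝒳.obj → Prop)
    (hQ : ∀ ⦃y x : 𝒳.obj⦄ (_ : y ⟶ x), Q x → Q y) : FibCat.IsFibGrpd (fullSub 𝒳 Q).p := by
  let ι := subIncl 𝒳 Q
  refine ⟨fun {x V} (f : V ⟶ 𝒳.p.obj x.obj) => ?_, fun {y x} φ => ⟨fun {a'} g φ' hφ' => ?_⟩⟩
  · obtain ⟨y, φ, hφ⟩ := h𝒳.exists_lift (x := x.obj) f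
    exact ⟨⟨y, hQ φ x.property⟩, ObjectProperty.homMk φ, (BasedFunctor.isHomLift_iff ι f _).1 hφ⟩
  · haveI := h𝒳.isStronglyCartesian φ.hom
    haveI : 𝒳.p.IsHomLift (g ≫ 𝒳.p.map φ.hom) φ'.hom := (BasedFunctor.isHomLift_iff ι _ φ').2 hφ'
    obtain ⟨χ, ⟨hχ, hχ'⟩, hu⟩ := Functor.IsStronglyCartesian.universal_property 𝒳.p
      (𝒳.p.map φ.hom) φ.hom g (g ≫ 𝒳.p.map φ.hom) rfl φ'.hom
    exact ⟨ObjectProperty.homMk χ,
      ⟨(BasedFunctor.isHomLift_iff ι g (ObjectProperty.homMk χ)).1 hχ,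
        ObjectProperty.hom_ext _ hχ'⟩, fun χ' hh => ObjectProperty.hom_ext _
          (hu χ'.hom ⟨(BasedFunctor.isHomLift_iff ι g χ').2 hh.1, congrArg (·.hom) hh.2⟩)⟩

/-- The inclusion of the objects within an open set of points is an open immersion. -/
theorem isOpenImm_within (h𝒳 : IsAlgStack Scheme.fppfPrecoverage 𝒳) {T : Set (Points 𝒳)}
    (hT : IsOpen T) : IsOpenImm (subIncl 𝒳 (Within T)) := by
  intro U y
  let O : U.left.Opens := ⟨Points.ofChart y ⁻¹' T, hT.preimage (continuous_ofChart h𝒳 y)⟩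
  let V : Over S := Over.mk (O.ι ≫ U.hom)
  let o : V ⟶ U := Over.homMk O.ι rfl
  have : Mono o := Over.mono_of_mono_left o
  let ι := subIncl 𝒳 (Within T)
  have hmem : ∀ b, Within T ((BasedFunctor.comp (overMap o) y).obj b) := fun b =>
    (within_chart_iff h𝒳.isStack.1 T y _).2 fun v => (b.hom.left v).2
  let σ : FibCat.overCat V ⥤ᵇ fullSub 𝒳 (Within T) :=
    { toFunctor := ObjectProperty.lift _ (BasedFunctor.comp (overMap o) y).toFunctor hmem
      w := (BasedFunctor.comp (overMap o) y).w }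
  let L := FibCat.fpLift (F := y) (G := ι) (overMap o) σ
    (show BasedFunctor.comp (overMap o) y ≅ BasedFunctor.comp σ ι from Iso.refl _)
  have hfst : (FibCat.fpFst y ι).toFunctor.Faithful := ⟨fun {η η'} {m m'} h => by
    have h' : m.hom.fst = m'.hom.fst := h
    refine fp_ext h' ((ObjectProperty.ι (Within T)).map_injective ?_)
    rw [← cancel_epi η.obj.iso.hom]
    exact (m.hom.w.symm.trans (by rw [h'])).trans m'.hom.w⟩
  have : L.toFunctor.Faithful := ⟨fun {a b} {m m'} h =>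
    Over.OverMorphism.ext (congrArg (fun k => k.hom.fst.left) h)⟩
  have : L.toFunctor.Full := ⟨fun {a b} m => by
    let t := m.hom.fst
    have ht : t.left ≫ b.hom = a.hom := by
      rw [← cancel_mono o, Category.assoc]
      exact Over.w t
    exact ⟨Over.homMk t.left ht, hfst.map_injective (Over.OverMorphism.ext rfl)⟩⟩
  have hL : FibCat.IsEquivOver L := isEquivOver_of_overId L fun η => by
    let a : Over U := η.obj.fst
    have hQ : Within T (y.obj a) := η.obj.snd.property.of_hom η.obj.iso.hom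
    have hr : Set.range a.hom.left ⊆ Set.range O.ι := by
      rintro - ⟨v, rfl⟩
      rw [Scheme.Opens.range_ι]
      exact (within_chart_iff h𝒳.isStack.1 T y a).1 hQ v
    let l := IsOpenImmersion.lift O.ι a.hom.left hr
    have hl : l ≫ O.ι = a.hom.left := IsOpenImmersion.lift_fac _ _ _
    let b : Over V := Over.mk (Over.homMk l (by
      show l ≫ O.ι ≫ U.hom = a.left.hom
      rw [← Category.assoc, hl, Over.w a.hom]) : a.left ⟶ V)
    let j : (overMap o).obj b ≅ a := Over.isoMk (Iso.refl _) (by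
      refine (Category.id_comp _).trans (Over.OverMorphism.ext ?_)
      exact hl.symm)
    have hj : OverId j.hom := OverId.of_eq rfl rfl
    let i : (σ.obj b).obj ≅ η.obj.snd.obj := y.toFunctor.mapIso j ≪≫ η.obj.iso
    let i' : σ.obj b ≅ η.obj.snd := ObjectProperty.isoMk _ i
    let e : L.obj b ≅ η := fpIsoMk j i' (by
      show y.map j.hom ≫ η.obj.iso.hom = 𝟙 _ ≫ (y.map j.hom ≫ η.obj.iso.hom)
      rw [Category.id_comp])
    exact ⟨b, e, overId_fp _ hj⟩
  refine ⟨⟨(AlgSp.yon S).obj V, AlgSp.IsAlgSpace.yon_obj V⟩, BasedFunctor.comp (toOverCat V) L,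
    isEquivOver_comp (toOverCat_isEquivOver V) hL, ?_⟩
  rw [show BasedFunctor.comp (BasedFunctor.comp (toOverCat V) L) (FibCat.fpFst y ι) =
    BasedFunctor.comp (toOverCat V) (overMap o) from rfl, spMapOfOver_overMap, spMapOfOver_toOverCat,
    Category.id_comp]
  exact (AlgSp.repWith_yon_map_iff @IsOpenImmersion o).2 (inferInstanceAs (IsOpenImmersion O.ι))

theorem isOpenSubstack_within (h𝒳 : IsAlgStack Scheme.fppfPrecoverage 𝒳) {T : Set (Points 𝒳)}
    (hT : IsOpen T) : IsOpenSubstack 𝒳 (Within T) Scheme.fppfPrecoverage :=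
  ⟨within_iso T, isAlgStack_of_rep1 (fullSub_isFibGrpd h𝒳.isStack.1 _ fun _ _ φ h => h.of_hom φ) h𝒳 _
    (repWith_rep1 (isOpenImm_within h𝒳 hT)), isOpenImm_within h𝒳 hT⟩

theorem range_within (h𝒳 : FibCat.IsFibGrpd 𝒳.p) (T : Set (Points 𝒳)) :
    Set.range (Points.map (subIncl 𝒳 (Within T))) = T := by
  refine Set.Subset.antisymm ?_ fun p hp => ?_
  · rintro - ⟨p, rfl⟩
    obtain ⟨p, rfl⟩ := Points.mk_surjective p
    exact p.obj.property (p.map (subIncl 𝒳 (Within T))) (𝟙 _)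
  · obtain ⟨q, rfl⟩ := Points.mk_surjective p
    let r : FPt (fullSub 𝒳 (Within T)) :=
      { K := q.K, str := q.str
        obj := ⟨q.obj, fun q' φ => by rwa [mk_eq_of_hom (p := q') (q := q) φ]⟩
        lies := q.lies }
    exact ⟨Points.mk r, mk_eq_of_hom (p := r.map (subIncl 𝒳 (Within T))) (q := q) (𝟙 _)⟩

end Groth.L24.Sub
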