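import Groth.Agent.L24.Sub.SmoothLocus
import Groth.Agent.L24.LocQ.Cancel

/-!
Smooth loci and smooth precomposition.
-/

set_option autoImplicit false
set_option backward.isDefEq.respectTransparency false
set_option backward.isDefEq.respectTransparency.types false

universe u

open CategoryTheory CategoryTheory.Limits AlgebraicGeometry Opposite AlgSt

noncomputable section

namespace Groth.L24.Sub

open Groth.L24.St

variable {S : Scheme.{u}} {𝒳' 𝒳 𝒴 : AlgSt.Cat S} {P : MorphismProperty (AlgSp.Sp S)}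

theorem locQ_congr {f f' : 𝒳 ⥤ᵇ 𝒴} (e : f ≅ f') (hf : AlgSt.LocQ P f) : AlgSt.LocQ P f' := by
  obtain ⟨U, V, x, y, h, α, hx, hxs, hy, hh⟩ := hf
  exact ⟨U, V, x, y, h, whiskerL x e.symm ≪≫ α, hx, hxs, hy, hh⟩

theorem locQ_precomp_equiv {Θ : 𝒳' ⥤ᵇ 𝒳} (hΘ : FibCat.IsEquivOver Θ) {f : 𝒳 ⥤ᵇ 𝒴} (hf : AlgSt.LocQ P f) :
    AlgSt.LocQ P (BasedFunctor.comp Θ f) := by
  obtain ⟨c, hc, -, ⟨b⟩⟩ := exists_inverse hΘ
  obtain ⟨U, V, x, y, h, α, hx, hxs, hy, hh⟩ := hf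
  exact ⟨U, V, BasedFunctor.comp x c, y, h, whiskerR (whiskerL x b) f ≪≫ α, (repWith_postcomp hc _).2 hx,
    (repWith_postcomp hc _).2 hxs, hy, hh⟩

theorem isOpenSubstack_preimage (h𝒳' : IsAlgStack Scheme.fppfPrecoverage 𝒳')
    (h𝒳 : IsAlgStack Scheme.fppfPrecoverage 𝒳) (g : 𝒳' ⥤ᵇ 𝒳) {Q : 𝒳.obj → Prop}
    (hQ : IsOpenSubstack 𝒳 Q Scheme.fppfPrecoverage) :
    IsOpenSubstack 𝒳' (fun a => Q (g.obj a)) Scheme.fppfPrecoverage ∧
      Set.range (Points.map (subIncl 𝒳' (fun a => Q (g.obj a)))) =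
        Points.map g ⁻¹' Set.range (Points.map (subIncl 𝒳 Q)) := by
  let T := Set.range (Points.map (subIncl 𝒳 Q))
  have hT : IsOpen (Points.map g ⁻¹' T) :=
    (isOpen_range_of_isOpenSubstack h𝒳 hQ).preimage (continuous_map h𝒳 g)
  have e : (fun a => Q (g.obj a)) = Within (Points.map g ⁻¹' T) := by
    funext a
    refine propext ((iff_within h𝒳 hQ _).trans ⟨fun h q φ => ?_, fun h => ?_⟩)
    · rw [Set.mem_preimage, Points.map_mk]
      exact h (q.map g) (g.map φ)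
    · obtain ⟨G, φ, hφ⟩ := exists_overCat_functor (U := 𝒳'.p.obj a) h𝒳'.isStack.1 a rfl
      have h' : Within (Points.map g ⁻¹' T) (G.obj (idObj _)) := h.of_hom φ.hom
      have h1 := (within_chart_iff h𝒳'.isStack.1 _ G (idObj _)).1 h'
      exact ((within_chart_iff h𝒳.isStack.1 T (BasedFunctor.comp G g) (idObj _)).2 fun v => by
        rw [map_comp_ofChart]
        exact h1 v).of_hom (g.map φ.inv)
  rw [e]
  exact ⟨isOpenSubstack_within h𝒳' hT, range_within h𝒳'.isStack.1 _⟩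

/-- The lift of a functor to a full subcategory. -/
abbrev liftSub (Q : 𝒳.obj → Prop) (g : 𝒳' ⥤ᵇ 𝒳) (hg : ∀ a, Q (g.obj a)) : 𝒳' ⥤ᵇ fullSub 𝒳 Q :=
  { toFunctor := ObjectProperty.lift _ g.toFunctor hg, w := g.w }

theorem liftSub_preimage_isEquivOver (g : 𝒳' ⥤ᵇ 𝒳) {Q : 𝒳.obj → Prop}
    (hQ : ObjectProperty.IsClosedUnderIsomorphisms Q) :
    FibCat.IsEquivOver (FibCat.fpLift (F := subIncl 𝒳 Q) (G := g)
      (liftSub Q (BasedFunctor.comp (subIncl 𝒳' fun a => Q (g.obj a)) g) fun a => a.property)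
      (subIncl 𝒳' fun a => Q (g.obj a)) (Iso.refl _)) := by
  let ι := subIncl 𝒳 Q
  let Q' : 𝒳'.obj → Prop := fun a => Q (g.obj a)
  haveI : ι.toFunctor.Full := inferInstanceAs (ObjectProperty.ι _).Full
  haveI : ι.toFunctor.Faithful := inferInstanceAs (ObjectProperty.ι _).Faithful
  let Ψ : FibCat.fp ι g ⥤ᵇ fullSub 𝒳' Q' :=
    liftSub Q' (FibCat.fpSnd ι g) fun b => hQ.1 b.obj.iso b.obj.fst.property
  refine ⟨Ψ, ⟨Iso.refl _⟩, ⟨?_⟩⟩
  let src : ∀ b : (FibCat.fp ι g).obj, (fullSub 𝒳 Q).obj := fun b =>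
    ⟨g.obj b.obj.snd, hQ.1 b.obj.iso b.obj.fst.property⟩
  let pre : ∀ b : (FibCat.fp ι g).obj, src b ≅ b.obj.fst := fun b => ObjectProperty.isoMk _ b.obj.iso.symm
  exact mkIso2 (fun b => fpIsoMk (pre b) (Iso.refl _)
      (b.obj.iso.inv_hom_id.trans ((Category.id_comp _).trans (g.toFunctor.map_id _)).symm))
    (fun b b' m => fp_ext (ι.toFunctor.map_injective (by
        change g.map m.hom.snd ≫ b'.obj.iso.inv = b.obj.iso.inv ≫ ι.map m.hom.fst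
        rw [Iso.eq_inv_comp, ← Category.assoc, Iso.comp_inv_eq]
        exact m.hom.w.symm))
      ((Category.comp_id _).trans (Category.id_comp _).symm))
    (fun b => overId_fp _ ((BasedFunctor.isHomLift_iff ι _ (pre b).hom).1
      (OverId.inv (i := b.obj.iso) (overId_of_lift b.property))))

/-- The restriction of a functor over an open substack keeps a property stable under base change. -/
theorem locQ_liftSub (hP : AlgSp.IsSmoothLocalST P) (hB : PBase P) (h𝒳' : IsAlgStack Scheme.fppfPrecoverage 𝒳')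
    (h𝒳 : IsAlgStack Scheme.fppfPrecoverage 𝒳) {g : 𝒳' ⥤ᵇ 𝒳} (hg : AlgSt.LocQ P g) {Q : 𝒳.obj → Prop}
    (hQ : IsOpenSubstack 𝒳 Q Scheme.fppfPrecoverage) :
    AlgSt.LocQ P (liftSub Q (BasedFunctor.comp (subIncl 𝒳' fun a => Q (g.obj a)) g) fun a => a.property) :=
  locQ_precomp_equiv (liftSub_preimage_isEquivOver g hQ.1)
    (LocQ.locQ_fpFst hP hB h𝒳' h𝒳 hQ.2.1 (subIncl 𝒳 Q) hg)

theorem locQ_smooth_comp {𝒵 : AlgSt.Cat S} (h𝒳 : IsAlgStack Scheme.fppfPrecoverage 𝒳)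
    (h𝒴 : IsAlgStack Scheme.fppfPrecoverage 𝒴) (h𝒵 : IsAlgStack Scheme.fppfPrecoverage 𝒵) {f : 𝒳 ⥤ᵇ 𝒴}
    {g : 𝒴 ⥤ᵇ 𝒵} (hf : AlgSt.LocQ (AlgSp.LocP @Smooth) f) (hg : AlgSt.LocQ (AlgSp.LocP @Smooth) g) :
    AlgSt.LocQ (AlgSp.LocP @Smooth) (BasedFunctor.comp f g) :=
  LocQ.locQ_comp isSmoothLocalST_smooth
    (fun _ _ _ hX hY hZ a b ha hb => Groth.L23.locP_comp Groth.L23.etLocal_smooth hX hY hZ ha hb)
    h𝒳 h𝒴 h𝒵 hf hg

theorem locQ_mono {P' : MorphismProperty (AlgSp.Sp S)} (h : P ≤ P') {f : 𝒳 ⥤ᵇ 𝒴} (hf : AlgSt.LocQ P f) :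
    AlgSt.LocQ P' f := by
  obtain ⟨U, V, x, y, k, α, hx, hxs, hy, hh⟩ := hf
  exact ⟨U, V, x, y, k, α, hx, hxs, hy, h _ hh⟩

theorem locQ_flat_of_smooth {f : 𝒳 ⥤ᵇ 𝒴} (hf : AlgSt.LocQ (AlgSp.LocP @Smooth) f) :
    AlgSt.LocQ (AlgSp.LocP @Flat) f :=
  locQ_mono (fun _ _ _ h => Groth.L23.locP_mono
    (fun φ (hφ : Smooth φ) => have := hφ; inferInstanceAs (Flat φ)) h) hf

theorem locQ_lfp_of_smooth {f : 𝒳 ⥤ᵇ 𝒴} (hf : AlgSt.LocQ (AlgSp.LocP @Smooth) f) :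
    AlgSt.LocQ (AlgSp.LocP @LocallyOfFinitePresentation) f :=
  locQ_mono (fun _ _ _ h => Groth.L23.locP_mono
    (fun φ (hφ : Smooth φ) => have := hφ; inferInstanceAs (LocallyOfFinitePresentation φ)) h) hf

end Groth.L24.Sub
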