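import Groth.Agent.L24.Sub.OpenSub2
import Groth.Agent.L24.St.Bootstrap
import Groth.Agent.L24.St.MonoLocal

/-!
An algebraic stack covered by open substacks which are spaces is a space.
-/

set_option autoImplicit false
set_option backward.isDefEq.respectTransparency false
set_option backward.isDefEq.respectTransparency.types false

universe w u

open CategoryTheory CategoryTheory.Limits AlgebraicGeometry Opposite AlgSt

noncomputable section

namespace Groth.L24.Sub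

open Groth.L24.St

variable {S : Scheme.{u}} {𝒳 : AlgSt.Cat S}

theorem isFibSetoid_of_cover (h𝒳 : IsAlgStack Scheme.fppfPrecoverage 𝒳) {ι : Type w} (Q : ι → 𝒳.obj → Prop)
    (hQ : ∀ i, IsOpenSubstack 𝒳 (Q i) Scheme.fppfPrecoverage)
    (hcov : ⋃ i, Set.range (Points.map (subIncl 𝒳 (Q i))) = Set.univ)
    (hsp : ∀ i, FibCat.IsFibSetoid (fullSub 𝒳 (Q i)).p) : FibCat.IsFibSetoid 𝒳.p := by
  have key : ∀ (x : 𝒳.obj) (a : x ⟶ x), OverId a → a = 𝟙 x := by
    intro x a ha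
    let U := 𝒳.p.obj x
    obtain ⟨G, φ, hφ⟩ := exists_overCat_functor (U := U) h𝒳.isStack.1 x rfl
    haveI : 𝒳.p.IsHomLift (𝟙 U) a := ha
    have : IsIso a := L09.Fib.isIso_of_isFibGrpd _ h𝒳.isStack.1 (𝟙 U) a
    let ψ : G.obj (idObj U) ≅ G.obj (idObj U) := φ ≪≫ asIso a ≪≫ φ.symm
    obtain ⟨e, he⟩ := exists_iso_of_evalId h𝒳.isStack.1 (G := G) (H := G) ψ (hφ.comp (ha.comp (OverId.inv hφ)))
    have hne : ∀ t : ↥U.left, ∃ i, Points.ofChart G t ∈ Set.range (Points.map (subIncl 𝒳 (Q i))) :=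
      fun t => Set.mem_iUnion.1 (hcov ▸ Set.mem_univ _)
    choose j hj using hne
    let O : ↥U.left → U.left.Opens := fun t =>
      ⟨Points.ofChart G ⁻¹' Set.range (Points.map (subIncl 𝒳 (Q (j t)))),
        (isOpen_range_of_isOpenSubstack h𝒳 (hQ (j t))).preimage (continuous_ofChart h𝒳 G)⟩
    let W : ↥U.left → Over S := fun t => Over.mk ((O t).ι ≫ U.hom)
    let v : ∀ t, W t ⟶ U := fun t => Over.homMk (O t).ι rfl
    have hR := generate_mem_J (T := U) W v (fun t => inferInstanceAs (Flat (O t).ι))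
      (fun t => inferInstanceAs (LocallyOfFinitePresentation (O t).ι)) (fun t => ⟨t, ⟨⟨t, hj t⟩, rfl⟩⟩)
    let R := Sieve.generate (Presieve.ofArrows W v)
    haveI : (Stk.resSieve R 𝒳).IsEquivalence := h𝒳.isStack.2 R hR
    have h1 : ∀ k : (Stk.sieveCat R).obj, e.hom.toNatTrans.app k.obj = 𝟙 (G.obj k.obj) := by
      intro k
      obtain ⟨_, l, g, ⟨t⟩, hlg⟩ := k.property
      have hk : Q (j t) (G.obj k.obj) := (iff_within h𝒳 (hQ (j t)) _).2
        ((within_chart_iff h𝒳.isStack.1 _ G _).2 fun w => by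
          rw [← hlg]
          exact (l.left w).2)
      let z : (fullSub 𝒳 (Q (j t))).obj := ⟨G.obj k.obj, hk⟩
      let m : z ⟶ z := ObjectProperty.homMk (e.hom.toNatTrans.app k.obj)
      have hm : OverId (𝒳 := fullSub 𝒳 (Q (j t))) m :=
        (BasedFunctor.isHomLift_iff (subIncl 𝒳 (Q (j t))) _ m).1 (overId_app e.hom k.obj)
      let z' : (fullSub 𝒳 (Q (j t))).p.Fiber ((fullSub 𝒳 (Q (j t))).p.obj z) := ⟨z, rfl⟩
      have h2 : (⟨m, hm⟩ : z' ⟶ z') = 𝟙 z' := @Subsingleton.elim _ ((hsp (j t)).2 _ z' z') _ _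
      exact congrArg (fun q : z' ⟶ z' => q.1.hom) h2
    have h3 : (Stk.resSieve R 𝒳).map e.hom = (Stk.resSieve R 𝒳).map (𝟙 G) :=
      BasedNatTrans.homCategory.ext _ _ (NatTrans.ext (funext fun k => h1 k))
    have h4 : e.hom = 𝟙 G := (Stk.resSieve R 𝒳).map_injective h3
    have h5 : φ.hom ≫ a ≫ φ.inv = 𝟙 _ := by
      have := congrArg (fun n : G ⟶ G => n.toNatTrans.app (idObj U)) h4
      exact he.symm.trans this
    rw [← cancel_epi φ.hom, ← cancel_mono φ.inv, Category.assoc, h5]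
    simp
  refine ⟨h𝒳.isStack.1, fun U => fun x y => ⟨fun a b => Subtype.ext ?_⟩⟩
  have := a.2
  have := b.2
  have : IsIso b.1 := L09.Fib.isIso_of_isFibGrpd _ h𝒳.isStack.1 (𝟙 U) b.1
  have hab : OverId (a.1 ≫ inv b.1) := (overId_of_lift a.2).comp
    (OverId.inv (i := asIso b.1) (overId_of_lift b.2))
  have := key x.1 _ hab
  rwa [IsIso.comp_inv_eq, Category.id_comp] at this

theorem repByAlgSp_of_cover (h𝒳 : IsAlgStack Scheme.fppfPrecoverage 𝒳) {ι : Type w} (Q : ι → 𝒳.obj → Prop)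
    (hQ : ∀ i, IsOpenSubstack 𝒳 (Q i) Scheme.fppfPrecoverage)
    (hcov : ⋃ i, Set.range (Points.map (subIncl 𝒳 (Q i))) = Set.univ)
    (hsp : ∀ i, RepByAlgSp (fullSub 𝒳 (Q i))) : RepByAlgSp 𝒳 :=
  repByAlgSp_of_isFibSetoid h𝒳 (isFibSetoid_of_cover h𝒳 Q hQ hcov fun i => isFibSetoid_of_repByAlgSp (hsp i))

end Groth.L24.Sub
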