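import Groth.Agent.L24.Sub.Cover
import Groth.Agent.L23.OpenCharts
import Groth.Agent.L24.St.PointsSp
import Groth.Agent.L24.St.OverSpace2

/-!
An algebraic stack covered by open substacks which are schemes is a scheme.
-/

set_option autoImplicit false
set_option backward.isDefEq.respectTransparency false
set_option backward.isDefEq.respectTransparency.types false

universe w u

open CategoryTheory CategoryTheory.Limits AlgebraicGeometry Opposite AlgSt

noncomputable section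

namespace Groth.L24.Sub

open Groth.L24.St

variable {S : Scheme.{u}} {𝒳 : AlgSt.Cat S}

theorem repByAlgSp_of_isRepresentable {𝒴 : AlgSt.Cat S} (h : FibCat.IsRepresentable 𝒴) : RepByAlgSp 𝒴 := by
  obtain ⟨U, Φ, hΦ⟩ := h
  exact (repByAlgSp_of_equiv hΦ).2 (overCat_repByAlgSp U)

theorem repWith_of_spChart {R : MorphismProperty Scheme.{u}} [R.IsStableUnderBaseChange] {F : AlgSp.Sp S}
    (hF : AlgSp.IsAlgSpace F) {U : Over S} (g : (AlgSp.yon S).obj U ⟶ F)
    (hg : RepByAlgSpWith (AlgSp.RepWith R) (spChart g)) : AlgSp.RepWith R g := by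
  have h : RepByAlgSpWith (AlgSp.RepWith R) (ofSpMap g) :=
    (repWith_precomp (ofOverCat_isEquivOver U) _).1 hg
  exact descends_repWith R g (AlgSp.IsAlgSpace.yon_obj U) hF
    (prop_snd_of_repWith (pBase_repWith R) (AlgSp.IsAlgSpace.yon_obj U) hF g h)

theorem isRepresentable_of_cover (h𝒳 : IsAlgStack Scheme.fppfPrecoverage 𝒳) {ι : Type w} (Q : ι → 𝒳.obj → Prop)
    (hQ : ∀ i, IsOpenSubstack 𝒳 (Q i) Scheme.fppfPrecoverage)
    (hcov : ⋃ i, Set.range (Points.map (subIncl 𝒳 (Q i))) = Set.univ)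
    (hsch : ∀ i, FibCat.IsRepresentable (fullSub 𝒳 (Q i))) : FibCat.IsRepresentable 𝒳 := by
  obtain ⟨F, e, he⟩ := repByAlgSp_of_cover h𝒳 Q hQ hcov fun i => repByAlgSp_of_isRepresentable (hsch i)
  obtain ⟨c, hc, ⟨ec⟩, -⟩ := exists_inverse he
  obtain ⟨G, θ, hθ⟩ := Groth.L23.OpenCharts.exists_scheme_of_open_charts F.property fun x => by
    obtain ⟨i, w, hw⟩ := Set.mem_iUnion.1
      (hcov.ge (Set.mem_univ (Points.map e (ptMap F.obj x))))
    obtain ⟨U, Φ, hΦ⟩ := hsch i
    obtain ⟨Ψ, hΨ, -, -⟩ := exists_inverse hΦ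
    obtain ⟨w', rfl⟩ := (bijective_map_of_isEquivOver hΨ).2 w
    let y : FibCat.overCat U ⥤ᵇ ofSp F.obj := BasedFunctor.comp Ψ (BasedFunctor.comp (subIncl 𝒳 (Q i)) c)
    have hy : RepByAlgSpWith (AlgSp.RepWith @IsOpenImmersion) y :=
      (repWith_precomp hΨ _).2 ((repWith_postcomp hc _).2 (hQ i).2.2)
    obtain ⟨g, ⟨eg⟩⟩ := exists_spChart_iso y
    refine ⟨U, g, overPt w', repWith_of_spChart F.property g ((repWith_congr eg).1 hy),
      (ptMap_bijective F.obj).1 ?_⟩
    rw [ptMap_ofPt, ← ofChart_congr eg, ofChart_eq_map, Function.comp_apply, ptOver_overPt,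
      map_comp_apply, map_comp_apply, hw, ← map_comp_apply, map_congr ec, map_id_apply]
  refine ⟨G, ?_⟩
  obtain ⟨Θ, hΘ, -, -⟩ := exists_inverse (isEquivOver_comp (ofOverCat_isEquivOver G)
    (isEquivOver_comp (ofSpMap_isEquivOver θ) he))
  exact ⟨Θ, hΘ⟩

end Groth.L24.Sub
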