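import Groth.Agent.L24.Sub.OpenSub2
import Groth.Agent.L24.LocQ.Instances
import Groth.Agent.L24.St.OfComp
import Groth.Agent.L23.SpaceSmoothDesc

/-!
The largest open substack on which a functor is smooth.
-/

set_option autoImplicit false
set_option backward.isDefEq.respectTransparency false
set_option backward.isDefEq.respectTransparency.types false

universe u

open CategoryTheory CategoryTheory.Limits AlgebraicGeometry Opposite AlgSt

noncomputable section

namespace Groth.L24.Sub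

open Groth.L24.St

variable {S : Scheme.{u}} {𝒳 𝒴 : AlgSt.Cat S}

theorem isSmoothLocalST_smooth :
    AlgSp.IsSmoothLocalST (AlgSp.LocP @Smooth : MorphismProperty (AlgSp.Sp S)) :=
  LocQ.isSmoothLocalST_locP Groth.L23.etLocal_smooth (fun _ h => h) Groth.L23.isLocalAtSource_smooth_smooth

theorem repWith_mono_of_openImm {f : 𝒳 ⥤ᵇ 𝒴} (hf : IsOpenImm f) :
    RepByAlgSpWith (MorphismProperty.monomorphisms (AlgSp.Sp S)) f :=
  repWith_mono (fun _ _ _ _ h => Groth.L23.mono_of_repWith_openImmersion h) hf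

/-- Smoothness cancels along a monomorphism. -/
theorem smooth_of_comp_mono {𝒲 : AlgSt.Cat S} {g : 𝒲 ⥤ᵇ 𝒳} {i : 𝒳 ⥤ᵇ 𝒴}
    (hi : RepByAlgSpWith (MorphismProperty.monomorphisms (AlgSp.Sp S)) i)
    (h : RepByAlgSpWith (AlgSp.LocP @Smooth) (BasedFunctor.comp g i)) :
    RepByAlgSpWith (AlgSp.LocP @Smooth) g :=
  repWith_of_comp_of (Q := MorphismProperty.monomorphisms (AlgSp.Sp S)) (pBase_locP Groth.L23.etLocal_smooth)
    (fun X Y Z hX hY hZ a b (hb : Mono b) hab => pBase_locP Groth.L23.etLocal_smooth hX hZ hX hY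
      (a ≫ b) b a (𝟙 X) (by simpa using (IsPullback.id_horiz a).paste_vert (IsKernelPair.id_of_mono b)) hab)
    hi h

/-- An open piece of a smooth chart whose points lie in the substack is a smooth chart of the substack. -/
theorem exists_chart_sub (h𝒳 : IsAlgStack Scheme.fppfPrecoverage 𝒳) {Q : 𝒳.obj → Prop}
    (hQ : IsOpenSubstack 𝒳 Q Scheme.fppfPrecoverage) {U : Over S} {x : FibCat.overCat U ⥤ᵇ 𝒳}
    (hx : RepByAlgSpWith (AlgSp.LocP @Smooth) x) (O : U.left.Opens)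
    (hO : Points.ofChart x '' (O : Set U.left) ⊆ Set.range (Points.map (subIncl 𝒳 Q))) :
    ∃ (x' : FibCat.overCat (Over.mk (O.ι ≫ U.hom)) ⥤ᵇ fullSub 𝒳 Q),
      RepByAlgSpWith (AlgSp.LocP @Smooth) x' ∧
      Nonempty (BasedFunctor.comp x' (subIncl 𝒳 Q) ≅
        BasedFunctor.comp (overMap (Over.homMk O.ι rfl : Over.mk (O.ι ≫ U.hom) ⟶ U)) x) := by
  let V : Over S := Over.mk (O.ι ≫ U.hom)
  let o : V ⟶ U := Over.homMk O.ι rfl
  let c := BasedFunctor.comp (overMap o) x
  have hmem : ∀ b, Q (c.obj b) := fun b => (iff_within h𝒳 hQ _).2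
    ((within_chart_iff h𝒳.isStack.1 _ x _).2 fun v => hO ⟨_, (b.hom.left v).2, rfl⟩)
  let x' : FibCat.overCat V ⥤ᵇ fullSub 𝒳 Q :=
    { toFunctor := ObjectProperty.lift _ c.toFunctor hmem, w := c.w }
  have ho : RepByAlgSpWith (AlgSp.LocP @Smooth) (overMap o) :=
    repWith_mono (fun _ _ _ _ h => Groth.L23.locP_of_repWith Groth.L23.etLocal_smooth h)
      (repWith_overMap (R := @Smooth) (inferInstanceAs (Smooth O.ι)))
  exact ⟨x', smooth_of_comp_mono (repWith_mono_of_openImm hQ.2.2)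
    (show RepByAlgSpWith (AlgSp.LocP @Smooth) (BasedFunctor.comp x' (subIncl 𝒳 Q)) from
      repWith_comp_locP Groth.L23.etLocal_smooth (overCat_isFibGrpd V) (overCat_isFibGrpd U) ho hx),
    ⟨Iso.refl _⟩⟩

/-- The largest open substack on which a functor is smooth. -/
theorem exists_smoothLocus (h𝒳 : IsAlgStack Scheme.fppfPrecoverage 𝒳)
    (h𝒴 : IsAlgStack Scheme.fppfPrecoverage 𝒴) (f : 𝒳 ⥤ᵇ 𝒴) :
    ∃ Q : 𝒳.obj → Prop, IsOpenSubstack 𝒳 Q Scheme.fppfPrecoverage ∧
      AlgSt.LocQ (AlgSp.LocP @Smooth) (BasedFunctor.comp (subIncl 𝒳 Q) f) ∧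
      ∀ Q' : 𝒳.obj → Prop, IsOpenSubstack 𝒳 Q' Scheme.fppfPrecoverage →
        AlgSt.LocQ (AlgSp.LocP @Smooth) (BasedFunctor.comp (subIncl 𝒳 Q') f) → ∀ a, Q' a → Q a := by
  obtain ⟨V, y, hy, hys⟩ := h𝒴.atlas
  obtain ⟨U, ℓ, h, hℓ, -, ⟨i⟩, hx, -, hxs⟩ := LocQ.exists_chart h𝒳 h𝒴 f y hy
  let x := BasedFunctor.comp ℓ (FibCat.fpFst f y)
  let α : BasedFunctor.comp x f ≅ BasedFunctor.comp (overMap h) y :=
    whiskerL ℓ (FibCat.fpIso f y) ≪≫ whiskerR i y
  let 𝒪 : Set U.left.Opens := {O | Smooth (O.ι ≫ h.left)}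
  let O : U.left.Opens := ⨆ W : 𝒪, W.1
  have hOs : Smooth (O.ι ≫ h.left) := by
    refine (IsZariskiLocalAtSource.iff_of_iSup_eq_top (P := @Smooth)
      (fun W : 𝒪 => O.ι ⁻¹ᵁ W.1) ?_).2 fun W => ?_
    · refine TopologicalSpace.Opens.ext (Set.eq_univ_of_forall fun v => ?_)
      obtain ⟨W, hW⟩ := TopologicalSpace.Opens.mem_iSup.1 (show v.1 ∈ O from v.2)
      exact TopologicalSpace.Opens.mem_iSup.2 ⟨W, hW⟩
    · rw [← morphismRestrict_ι_assoc]
      have : Smooth (W.1.ι ≫ h.left) := W.2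
      infer_instance
  let T := Points.ofChart x '' (O : Set U.left)
  have hT : IsOpen T := isOpenMap_ofChart isOpenMap_of_smooth h𝒳.isStack.1 hx _ O.2
  have hsub := range_within h𝒳.isStack.1 T
  have hQ := isOpenSubstack_within h𝒳 hT
  refine ⟨Within T, hQ, ?_, fun Q' hQ' hs a ha => ?_⟩
  · obtain ⟨x', hx', ⟨e⟩⟩ := exists_chart_sub h𝒳 hQ hx O hsub.ge
    let o : Over.mk (O.ι ≫ U.hom) ⟶ U := Over.homMk O.ι rfl
    obtain ⟨c⟩ := LocQ.exists_overMap_comp o h
    refine ⟨_, V, x', y, o ≫ h, whiskerR e f ≪≫ whiskerL (overMap o) α ≪≫ whiskerR c y, hx', ?_, hy,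
      (LocQ.locP_map_iff Groth.L23.etLocal_smooth _).2 hOs⟩
    refine repWith_surjective_of_isSurjective (overCat_isFibGrpd _) hQ.2.1.isStack.1 (repWith_rep1 hx') fun p => ?_
    haveI : (subIncl 𝒳 (Within T)).toFunctor.Full := inferInstanceAs (ObjectProperty.ι _).Full
    obtain ⟨u, hu, hup⟩ : Points.map (subIncl 𝒳 (Within T)) p ∈ T := hsub.subset ⟨p, rfl⟩
    let v : ↥(Over.mk (O.ι ≫ U.hom)).left := (⟨u, hu⟩ : O.toScheme)
    refine ⟨ptOver v, injective_map_of_fullFaithful hQ.2.1.isStack.1 h𝒳.isStack.1 (subIncl 𝒳 (Within T)) ?_⟩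
    rw [← map_comp_apply, map_congr e, ← hup]
    exact ofChart_overMap_comp o x v
  · refine ((iff_within h𝒳 hQ' a).1 ha).mono fun p hp => ?_
    obtain ⟨u, rfl⟩ := surjective_ofChart_of_repWith h𝒳.isStack.1 (hxs hys) p
    refine ⟨u, ?_, rfl⟩
    let O' : U.left.Opens := ⟨Points.ofChart x ⁻¹' Set.range (Points.map (subIncl 𝒳 Q')),
      (isOpen_range_of_isOpenSubstack h𝒳 hQ').preimage (continuous_ofChart h𝒳 x)⟩
    obtain ⟨x', hx', ⟨e⟩⟩ := exists_chart_sub h𝒳 hQ' hx O' (Set.image_subset_iff.2 fun _ h => h)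
    let o : Over.mk (O'.ι ≫ U.hom) ⟶ U := Over.homMk O'.ι rfl
    obtain ⟨c⟩ := LocQ.exists_overMap_comp o h
    let ι' := subIncl 𝒳 Q'
    let ℓ' := FibCat.fpLift (F := BasedFunctor.comp ι' f) (G := y) x' (overMap (o ≫ h))
      (whiskerR e f ≪≫ whiskerL (overMap o) α ≪≫ whiskerR c y)
    let L := legL (G := y) ι' (Iso.refl (BasedFunctor.comp ι' f))
    have hL : RepByAlgSpWith (MorphismProperty.monomorphisms (AlgSp.Sp S)) L :=
      legL_repWith (repWith_mono_of_openImm hQ'.2.2)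
    have iL : BasedFunctor.comp ℓ' L ≅ BasedFunctor.comp (overMap o) ℓ :=
      mkIso2 (fun b => fpIsoMk (appIso e b) ((appIso c b).symm ≪≫ (appIso i ((overMap o).obj b)).symm) (by
          change f.map (appIso e b).hom ≫ (ℓ.obj ((overMap o).obj b)).obj.iso.hom =
            ((Iso.refl _).hom ≫ (f.map (e.hom.toNatTrans.app b) ≫
              (((ℓ.obj ((overMap o).obj b)).obj.iso.hom ≫ y.map (i.hom.toNatTrans.app ((overMap o).obj b))) ≫
                y.map (c.hom.toNatTrans.app b))) ≫ 𝟙 _) ≫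
              y.map ((appIso c b).inv ≫ (appIso i ((overMap o).obj b)).inv)
          have hc : c.hom.toNatTrans.app b ≫ c.inv.toNatTrans.app b = 𝟙 _ := (appIso c b).hom_inv_id
          have hi : i.hom.toNatTrans.app ((overMap o).obj b) ≫ i.inv.toNatTrans.app ((overMap o).obj b) = 𝟙 _ :=
            (appIso i ((overMap o).obj b)).hom_inv_id
          simp [appIso]
          rw [← Functor.map_comp, ← Functor.map_comp, ← Functor.map_comp, reassoc_of% hc, hi]
          exact congrArg (f.map (e.hom.toNatTrans.app b) ≫ ·)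
            ((Category.comp_id _).symm.trans (congrArg (_ ≫ ·) (y.toFunctor.map_id _).symm))))
        (fun b b' m => fp_ext (e.hom.toNatTrans.naturality m) (by
          show _ ≫ (c.inv.toNatTrans.app b' ≫ i.inv.toNatTrans.app ((overMap o).obj b')) =
            (c.inv.toNatTrans.app b ≫ i.inv.toNatTrans.app ((overMap o).obj b)) ≫ _
          have h1 := c.inv.toNatTrans.naturality m
          have h2 := i.inv.toNatTrans.naturality ((overMap o).map m)
          simp only [BasedFunctor.comp_toFunctor, Functor.comp_map] at h1 h2 ⊢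
          rw [← Category.assoc]
          exact ((congrArg (· ≫ _) h1).trans (Category.assoc _ _ _)).trans
            ((congrArg (_ ≫ ·) h2).trans (Category.assoc _ _ _).symm)))
        (fun b => overId_fp _ (overId_app e.hom b))
    have ho : RepByAlgSpWith (AlgSp.LocP @Smooth) (overMap o) :=
      repWith_mono (fun _ _ _ _ h => Groth.L23.locP_of_repWith Groth.L23.etLocal_smooth h)
        (repWith_overMap (R := @Smooth) (inferInstanceAs (Smooth O'.ι)))
    have hfp := isAlgStack_fp h𝒳 (isAlgStack_overCat V) h𝒴 f y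
    have hℓ' : RepByAlgSpWith (AlgSp.LocP @Smooth) ℓ' := smooth_of_comp_mono hL
      ((repWith_congr iL).2 (repWith_comp_locP Groth.L23.etLocal_smooth (overCat_isFibGrpd _)
        (overCat_isFibGrpd U) ho hℓ))
    have h1 := LocQ.prop_of_chart isSmoothLocalST_smooth hQ'.2.1.isStack.1 h𝒴.isStack.1 hs hy hℓ'
      (h' := o ≫ h) (Iso.refl _)
    exact TopologicalSpace.Opens.mem_iSup.2
      ⟨⟨O', (LocQ.locP_map_iff Groth.L23.etLocal_smooth (o ≫ h)).1 h1⟩, hp⟩

end Groth.L24.Sub
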